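import Cfsg.Agent.Lib.CosetEnum.M11x720.Enum
import Cfsg.Agent.Lib.CosetEnum.M11x11.Enum
import Cfsg.Agent.Lib.CosetEnum.M11Slp
import Cfsg.Agent.Lib.CosetEnum.J1x25080.Enum
import Cfsg.Agent.Lib.CosetEnum.Simple
import Cfsg.Agent.Lib.CosetEnum.Ident
import Cfsg.Agent.Lib.SporMatrix.J1
import Cfsg.Prelude.Def_Sporadic

/-! Presentations of the smallest Mathieu group and of the first Janko group, by simplicity and order. -/

set_option autoImplicit false

namespace Cfsg.Agent.Lib.CosetEnum.ONSub

open Cfsg.Agent.Lib.CosetEnum Cfsg.Agent.Lib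

/-- A homomorphism from a group presented on two generators, from values of the four letters. -/
theorem exists_hom {G : Type} [Group G] (R : List (List ℕ)) (ML : ℕ → G) (h1 : ML 1 = (ML 0)⁻¹)
    (h3 : ML 3 = (ML 2)⁻¹) (h : ∀ l ∈ R, (∀ g ∈ l, g < 4) ∧ (l.map ML).prod = 1) :
    ∃ φ : PresentedGroup (ExactCover.relSet 2 R) →* G,
      φ (PresentedGroup.of 0) = ML 0 ∧ φ (PresentedGroup.of 1) = ML 2 := by
  let gen : Fin 2 → G := ![ML 0, ML 2]
  have hS : ∀ r ∈ ExactCover.relSet 2 R, FreeGroup.lift gen r = 1 := by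
    intro r hr
    obtain ⟨l, hl, rfl⟩ := List.mem_map.1 hr
    obtain ⟨hlt, hprod⟩ := h l hl
    show FreeGroup.lift gen (ExactCover.word 2 l) = 1
    have hml : ∀ g < 2 * 2, (MonoidHom.id G) (FreeGroup.lift gen (ExactCover.word 2 [g])) = ML g := by
      refine ExactCover.forall_lt_two_mul fun i => ⟨?_, ?_⟩
      · rw [MonoidHom.id_apply, ExactCover.lift_word_pos]
        fin_cases i <;> rfl
      · rw [MonoidHom.id_apply, ExactCover.lift_word_neg]
        fin_cases i
        · exact h1.symm
        · exact h3.symm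
    have := ExactCover.map_lift_word gen (MonoidHom.id G) ML hml l hlt
    rw [MonoidHom.id_apply] at this
    rw [this, hprod]
  exact ⟨PresentedGroup.toGroup hS, PresentedGroup.toGroup.of hS, PresentedGroup.toGroup.of hS⟩

/-- A cyclic subgroup given by a word whose power is a relator. -/
theorem card_cyclic_le {α : Type} [DecidableEq α] (L : Letters α) (S : Set (FreeGroup α))
    (hS : ∀ r ∈ L.rels, r ∈ S) (hok : L.OK) (hcol : ∀ a, L.col a < L.K ∧ L.sym (L.col a) = (a, true))
    (w : List ℕ) (n : ℕ) (hn : 0 < n) (hw : (List.replicate n w).flatten ∈ L.RL) :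
    Nat.card (subOf L S [w]) ≠ 0 ∧ Nat.card (subOf L S [w]) ≤ n := by
  have hrel := Letters.prod_rel hS hok hcol hw
  have hp : ∀ m : ℕ, ((List.replicate m w).flatten.map (L.phi S)).prod = (w.map (L.phi S)).prod ^ m := by
    intro m
    induction m with
    | zero => simp
    | succ m ih => rw [List.replicate_succ, List.flatten_cons, List.map_append, List.prod_append, ih, pow_succ']
  rw [hp] at hrel
  have heq : subOf L S [w] = Subgroup.zpowers (w.map (L.phi S)).prod := by
    rw [Subgroup.zpowers_eq_closure, subOf]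
    congr 1
    ext x
    simp [eq_comm]
  have hfin : IsOfFinOrder (w.map (L.phi S)).prod := isOfFinOrder_iff_pow_eq_one.2 ⟨n, hn, hrel⟩
  rw [heq, Nat.card_zpowers]
  exact ⟨hfin.orderOf_pos.ne', orderOf_le_of_pow_eq_one hn hrel⟩

/-- The presented M11. -/
abbrev P11 : Type := PresentedGroup M11x11.pres

/-- The presented J1. -/
abbrev P1 : Type := PresentedGroup J1x25080.pres

theorem card_P11_le : Nat.card P11 ≠ 0 ∧ Nat.card P11 ≤ 7920 := by
  have hidx := M11x720.enum.index
  have hH : Nat.card (subOf M11x720.letters M11x720.pres M11x720.subWords) ≠ 0 ∧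
      Nat.card (subOf M11x720.letters M11x720.pres M11x720.subWords) ≤ 11 := card_cyclic_le M11x720.letters M11x720.pres M11x720.sameRels.1 M11x720.letters_ok
    M11x720.table_ok.col [0, 2] 11 (by omega) (by decide +kernel)
  have h := (subOf M11x720.letters M11x720.pres M11x720.subWords).card_mul_index
  rw [hidx] at h
  show Nat.card (PresentedGroup M11x720.pres) ≠ 0 ∧ Nat.card (PresentedGroup M11x720.pres) ≤ 7920
  rw [← h]
  exact ⟨Nat.mul_ne_zero hH.1 (by omega), by
    have := Nat.mul_le_mul_right 720 hH.2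
    simpa using this⟩

theorem card_P1_le : Nat.card P1 ≠ 0 ∧ Nat.card P1 ≤ 175560 := by
  have hidx := J1x25080.enum.index
  have hH : Nat.card (subOf J1x25080.letters J1x25080.pres J1x25080.subWords) ≠ 0 ∧
      Nat.card (subOf J1x25080.letters J1x25080.pres J1x25080.subWords) ≤ 7 := card_cyclic_le J1x25080.letters J1x25080.pres J1x25080.sameRels.1 J1x25080.letters_ok
    J1x25080.table_ok.col [0, 2] 7 (by omega) (by decide +kernel)
  have h := (subOf J1x25080.letters J1x25080.pres J1x25080.subWords).card_mul_index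
  rw [hidx] at h
  rw [← h]
  exact ⟨Nat.mul_ne_zero hH.1 (by omega), by
    have := Nat.mul_le_mul_right 25080 hH.2
    simpa using this⟩

/-- The matrices of the two generators in J1, as words in X and Y. -/
def ja : List ℕ := (List.replicate 5 [1, 1, 1, 0, 0, 1, 1, 1, 0, 1, 0, 0, 0, 0, 0, 0]).flatten

/-- The matrices of the two generators in J1, as words in X and Y. -/
def jb : List ℕ := (List.replicate 2 [1, 0, 1, 1, 1, 1, 1, 1, 0, 0, 0, 1, 0, 0, 0, 0]).flatten

/-- X in the generators. -/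
def jX : List ℕ := [0, 2, 2, 0, 2, 2, 0, 2, 0, 2, 2, 0, 2, 0, 2, 2, 0, 2, 0, 2, 2, 0, 2, 2, 0, 2, 0, 2, 0, 2, 2, 0, 2, 2, 0, 2, 0, 2, 0, 2, 2, 0, 2, 2, 0, 2, 0, 2, 0, 2]

/-- Y in the generators. -/
def jY : List ℕ := [0, 2, 2, 0, 2, 2, 0, 2, 0, 2, 0, 2, 2, 0, 2, 0, 2, 2, 0, 2, 0, 2, 2, 0, 2, 0, 2, 2, 0, 2, 2, 0, 2, 0, 2, 2, 0, 2, 0, 2, 2, 0, 2, 2, 0]

/-- The word of a letter in X and Y. -/
def jlet (g : ℕ) : List ℕ := [ja, ja, jb, jb ++ jb].getD g []

/-- A word in the four letters as a word in X and Y. -/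
def jsub (w : List ℕ) : List ℕ := w.flatMap jlet

open SporMatrix.J1 in
theorem j1_words : J1x25080.relWords.all (fun l => l.all (fun g => Nat.blt g 4) &&
    SporMatrix.Code7.beq (codeW (jsub l)) (codeW [])) = true := by
  decide +kernel

theorem isJ1_P1 : Cfsg.IsJ1 P1 := by
  haveI : Finite P1 := Nat.finite_of_card_ne_zero card_P1_le.1
  have hsub : ∀ w : List ℕ, SporMatrix.J1.evJ (jsub w) = (w.map fun g => SporMatrix.J1.evJ (jlet g)).prod := by
    intro w
    induction w with
    | nil => rfl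
    | cons g w ih =>
      rw [List.map_cons, List.prod_cons, ← ih, ← SporMatrix.J1.evJ_append]; rfl
  have h1 : SporMatrix.J1.evJ (jlet 1) = (SporMatrix.J1.evJ (jlet 0))⁻¹ := by
    refine eq_inv_of_mul_eq_one_left ?_
    rw [← SporMatrix.J1.evJ_append]
    exact SporMatrix.J1.evJ_eq (w := []) (by decide +kernel)
  have h3 : SporMatrix.J1.evJ (jlet 3) = (SporMatrix.J1.evJ (jlet 2))⁻¹ := by
    refine eq_inv_of_mul_eq_one_left ?_
    rw [← SporMatrix.J1.evJ_append]
    exact SporMatrix.J1.evJ_eq (w := []) (by decide +kernel)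
  obtain ⟨φ, hφ0, hφ1⟩ := exists_hom J1x25080.relWords (fun g => SporMatrix.J1.evJ (jlet g)) h1 h3
    (fun l hl => by
      have h := List.all_eq_true.1 j1_words l hl
      simp only [Bool.and_eq_true, List.all_eq_true, Nat.blt_eq] at h
      exact ⟨h.1, (hsub l).symm.trans (SporMatrix.J1.evJ_eq (w := []) h.2)⟩)
  have hmem : ∀ w : List ℕ, (∀ g ∈ w, g = 0 ∨ g = 2) → SporMatrix.J1.evJ (jsub w) ∈ φ.range := by
    intro w hw
    rw [hsub]
    refine Subgroup.list_prod_mem _ fun z hz => ?_
    obtain ⟨g, hg, rfl⟩ := List.mem_map.1 hz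
    rcases hw g hg with rfl | rfl
    · exact ⟨_, hφ0⟩
    · exact ⟨_, hφ1⟩
  have hsurj : Function.Surjective φ := by
    rw [← MonoidHom.range_eq_top, eq_top_iff, ← SporMatrix.J1.closure_gens, Subgroup.closure_le]
    rintro y (rfl | rfl)
    · rw [SporMatrix.J1.evJ_eq (v := [0]) (w := jsub jX) (by decide +kernel)]
      exact hmem jX (by decide +kernel)
    · rw [SporMatrix.J1.evJ_eq (v := [1]) (w := jsub jY) (by decide +kernel)]
      exact hmem jY (by decide +kernel)
  have hle := Nat.card_le_card_of_surjective φ hsurj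
  have hbij : Function.Bijective φ := (Nat.bijective_iff_surjective_and_card φ).2
    ⟨hsurj, le_antisymm (card_P1_le.2.trans SporMatrix.J1.card_J1.ge) hle⟩
  let e : P1 ≃* ↥Cfsg.Spor.J1 := MulEquiv.ofBijective φ hbij
  haveI := SporMatrix.J1.isSimpleGroup_J1
  exact ⟨e.isSimpleGroup, (Nat.card_congr e.toEquiv).trans SporMatrix.J1.card_J1⟩

theorem isM11_P11 : Cfsg.IsM11 P11 := by
  haveI : Finite P11 := Nat.finite_of_card_ne_zero card_P11_le.1
  have hsame : M11x11.pres = M11x720.pres := rfl
  obtain ⟨ρ, hρ, hst, htr⟩ := M11x11.enum.action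
  have hge := M11Slp.card_ge ρ _ hρ
  have h1 : Nat.card ρ.range ≤ Nat.card P11 :=
    Nat.card_le_card_of_surjective ρ.rangeRestrict ρ.rangeRestrict_surjective
  have hcard : Nat.card P11 = 7920 := le_antisymm card_P11_le.2 (hge.trans h1)
  have hinj : Function.Injective ρ := injective_of_card ρ card_P11_le hge
  refine ⟨?_, hcard⟩
  have hH : Nat.card (subOf M11x11.letters M11x11.pres M11x11.subWords) = 720 := by
    have h := (subOf M11x11.letters M11x11.pres M11x11.subWords).card_mul_index
    rw [M11x11.enum.index] at h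
    exact Nat.eq_of_mul_eq_mul_right (by omega : 0 < 11) ((h.trans hcard).trans (by norm_num))
  refine isSimple_of_primitive ρ ⟨0, by omega⟩ (by omega) hinj hst htr ?_
    (([0, 2] : List ℕ).map (M11x11.letters.phi M11x11.pres)).prod 11 ?_ (by rw [hH]; decide +kernel) ?_
  · intro O h0 _ hO
    rcases (Nat.dvd_prime (by norm_num : Nat.Prime 11)).1 hO with h | h
    · left
      obtain ⟨a, rfl⟩ := Set.ncard_eq_one.1 h
      rw [Set.mem_singleton_iff] at h0
      rw [h0]
    · right
      rw [Set.eq_univ_iff_ncard, Nat.card_fin, h]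
  · have hrel := Letters.prod_rel (S := M11x11.pres) M11x11.sameRels.1 M11x11.letters_ok
      M11x11.table_ok.col (l := (List.replicate 11 [0, 2]).flatten) (by decide +kernel)
    rw [← hrel]
    simp [List.replicate_succ, pow_succ, mul_assoc]
  · intro N' hN' hw
    haveI := hN'
    let v : ℕ → P11 ⧸ N' := fun g => QuotientGroup.mk' N' (M11x11.letters.phi M11x11.pres g)
    have hprod : ∀ l : List ℕ, l ∈ M11x11.letters.RL → (l.map v).prod = 1 := by
      intro l hl
      rw [show v = (QuotientGroup.mk' N') ∘ (M11x11.letters.phi M11x11.pres) from rfl, ← List.map_map,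
        ← map_list_prod, Letters.prod_rel M11x11.sameRels.1 M11x11.letters_ok M11x11.table_ok.col hl, map_one]
    have hab : v 0 * v 2 = 1 := by
      have := (QuotientGroup.eq_one_iff _).2 hw
      simpa [v] using this
    have ha : v 0 * v 0 = 1 := by simpa using hprod [0, 0] (by decide +kernel)
    have hai : v 0 * v 1 = 1 := by simpa using hprod [0, 1] (by decide +kernel)
    have hbi : v 2 * v 3 = 1 := by simpa using hprod [2, 3] (by decide +kernel)
    have eb : v 2 = v 0 := mul_left_cancel (hab.trans ha.symm)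
    have ebi : v 3 = v 0 := by rw [eb] at hbi; exact mul_left_cancel (hbi.trans ha.symm)
    have h5 := hprod [0, 2, 0, 2, 0, 3, 0, 2, 0, 2, 2, 0, 3, 0, 2, 0, 3, 0, 3] (by decide +kernel)
    simp only [List.map_cons, List.map_nil, List.prod_cons, List.prod_nil, eb, ebi, mul_one] at h5
    have e0 : v 0 = 1 := by
      simpa [← mul_assoc, ha] using h5
    rw [eq_top_iff, ← Letters.gen_closure M11x11.table_ok.col, Subgroup.closure_le]
    rintro _ ⟨g, hg, rfl⟩
    rw [SetLike.mem_coe, ← QuotientGroup.eq_one_iff]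
    show v g = 1
    match g, hg with
    | 0, _ => exact e0
    | 1, _ => rw [e0, one_mul] at hai; exact hai
    | 2, _ => rw [eb, e0]
    | 3, _ => rw [ebi, e0]

end Cfsg.Agent.Lib.CosetEnum.ONSub
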