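import Cfsg.Agent.Lib.CosetEnum.ONOrbit.Facts
import Cfsg.Agent.Lib.CosetEnum.ONOut.Defs
import Cfsg.Agent.Lib.CosetEnum.ONSub.Small

/-! Simple subgroups of orders 7920 and 175560 in the O'Nan group. -/

set_option autoImplicit false
set_option maxRecDepth 20000

namespace Cfsg.Agent.Lib.CosetEnum.ONSub

open Cfsg.Agent.Lib.CosetEnum Cfsg.Agent.Lib.CosetEnum.ONOut

/-- Only the identity fixes six points. -/
theorem base_eq (ρ : ONOrbit.G →* Equiv.Perm (Fin 122760))
    (hρ : ∀ g < ON122760.letters.K, ∀ i : Fin 122760,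
      ((ρ (ON122760.letters.phi ON122760.pres g))⁻¹ i).1 =
        get32 ON122760.table (i.1 * ON122760.letters.K + g))
    (hst : ∀ x, x ∈ ONOrbit.J ↔ ρ x ⟨0, by omega⟩ = ⟨0, by omega⟩)
    (hJ : Nat.card ONOrbit.J = 3753792)
    (bases_ok : get32 ON122760.orbPts3 0 = 12 ∧ get32 ON122760.orbPts3 1 = 40 ∧
      get32 ON122760.orbPts3 3 = 28 ∧ get32 ON122760.orbPts3 5 = 77 ∧ get32 ON122760.orbPts3 9 = 185) :
    ∀ g : ONOrbit.G, (∀ b : Fin 122760, b.1 ∈ bG → (ρ g)⁻¹ b = b) → g = 1 := by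
  classical
  haveI : Finite ONOrbit.J := Nat.finite_of_card_ne_zero (by rw [hJ]; omega)
  obtain ⟨ρJ, hρJ, hker⟩ := exists_restrict ρ hρ emb (by decide +kernel) _ _ _ ONOrbit.restrict_ok
  let gen : ℕ → ONOrbit.J := fun g => if hg : g < emb.length then
    ⟨ON122760.letters.phi _ (emb.getD g 0), Subgroup.subset_closure ⟨[emb.getD g 0],
      List.mem_map.2 ⟨_, by rw [List.getD_eq_getElem _ _ hg]; exact List.getElem_mem hg, rfl⟩,
      by simp⟩⟩ else 1
  have hgen : ∀ g < 6, ∀ m : Fin 5586, ((ρJ (gen g))⁻¹ m).1 = get32 ONOrbit.table (m.1 * 6 + g) :=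
    fun g hg m => by
      have hg' : g < emb.length := hg
      simp only [gen, dif_pos hg']
      exact hρJ g hg' m
  have hjge : 3753792 ≤ Nat.card ρJ.range := ONSlp.card_ge ρJ gen hgen
  have hJinj : Function.Injective ρJ := injective_of_card ρJ ⟨by rw [hJ]; omega, hJ.le⟩ hjge
  have hfix : Nat.card (fixList ρJ []) ≤ 3753792 := by
    refine (Nat.card_le_card_of_injective (fun σ : fixList ρJ [] => (⟨σ.1, σ.2.1⟩ : ρJ.range))
      fun a b hab => Subtype.ext (congrArg (fun z : ρJ.range => z.1) hab)).trans ?_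
    exact (Nat.card_le_card_of_surjective ρJ.rangeRestrict ρJ.rangeRestrict_surjective).trans hJ.le
  -- the suborbit
  have hj := allBelow_iff.1 ONOrbit.restrict_ok
  simp only [restrictAt, force_eq, Bool.and_eq_true, Nat.blt_eq, Nat.beq_eq, allBelow_iff,
    Nat.add_eq, Nat.mul_eq] at hj
  let f : Fin 5586 → Fin 122760 := fun m => ⟨get32 ON122760.orbPts3 m.1, (hj m.1 m.2).1.1⟩
  have hrelGen : ∀ g < 6, ∀ m : Fin 5586, f ((ρJ (gen g))⁻¹ m) = (ρ (gen g).1)⁻¹ (f m) := by
    intro g hg m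
    apply Fin.ext
    have hg' : g < emb.length := hg
    have h := ((hj m.1 m.2).2 g hg').2
    have hl : emb.getD g 0 < ON122760.letters.K := by
      have := List.all_eq_true.1 (by decide +kernel : emb.all (fun e => Nat.blt e 8) = true) _
        (by rw [List.getD_eq_getElem _ _ hg']; exact List.getElem_mem hg' : emb.getD g 0 ∈ emb)
      simpa [ON122760.letters] using this
    have hgv : (gen g).1 = ON122760.letters.phi _ (emb.getD g 0) := by simp only [gen, dif_pos hg']
    rw [hgv, hρ _ hl]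
    show get32 ON122760.orbPts3 ((ρJ (gen g))⁻¹ m).1 = _
    rw [hgen g hg m]
    exact h
  have hrel : ∀ (x : ONOrbit.J) (m : Fin 5586), f ((ρJ x)⁻¹ m) = (ρ x.1)⁻¹ (f m) := by
    rintro ⟨x, hx⟩
    induction hx using Subgroup.closure_induction with
    | mem x hx =>
      obtain ⟨l, hl, rfl⟩ := hx
      obtain ⟨e, he, rfl⟩ := List.mem_map.1 hl
      obtain ⟨g, hg, rfl⟩ := List.mem_iff_getElem.1 he
      intro m
      have hh : (⟨_, Subgroup.subset_closure ⟨[emb[g]], hl, rfl⟩⟩ : ONOrbit.J) = gen g := by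
        apply Subtype.ext
        simp only [gen, dif_pos (show g < emb.length from hg)]
        rw [List.getD_eq_getElem _ _ (show g < emb.length from hg)]
        simp
      have := hrelGen g hg m
      rw [← hh] at this
      exact this
    | one => intro m; simp [show (⟨1, _⟩ : ONOrbit.J) = 1 from rfl]
    | mul a b ha hb iha ihb =>
      intro m
      let a' : ONOrbit.J := ⟨a, ha⟩
      let b' : ONOrbit.J := ⟨b, hb⟩
      show f ((ρJ (a' * b'))⁻¹ m) = (ρ (a' * b').1)⁻¹ (f m)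
      rw [map_mul, mul_inv_rev,
        Equiv.Perm.mul_apply, ihb, iha, Subgroup.coe_mul, map_mul, mul_inv_rev, Equiv.Perm.mul_apply]
    | inv a ha iha =>
      intro m
      have h2 := iha (ρJ ⟨a, ha⟩ m)
      let a' : ONOrbit.J := ⟨a, ha⟩
      show f ((ρJ a'⁻¹)⁻¹ m) = (ρ (a'⁻¹).1)⁻¹ (f m)
      rw [map_inv, inv_inv, Subgroup.coe_inv, map_inv,
        inv_inv]
      have hcancel : (ρJ a')⁻¹ (ρJ a' m) = m := by simp
      have h3 : f ((ρJ a')⁻¹ (ρJ a' m)) = (ρ a'.1)⁻¹ (f (ρJ a' m)) := h2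
      rw [hcancel] at h3
      rw [h3]
      simp
  -- faithful base
  have hP : ∀ k < 122, ∃ x : ONOrbit.J, ∀ i : Fin 5586,
      ((ρJ x)⁻¹ i).1 = get32 ONSlp.perms (k * 5586 + i.1) := slp_sound ρJ gen hgen ONSlp.slp_ok
  have hbJ : ∀ h : ONOrbit.J, (∀ b : Fin 5586, b.1 ∈ bJ → (ρJ h)⁻¹ b = b) → h = 1 := fun h hh =>
    hJinj (by
      rw [map_one, ← inv_eq_one]
      exact Tight.eq_one ρJ (tight_of_levels ρJ hP _ [] ONSlp.levels_ok (ONSlp.size_eq ▸ hfix)) _
        ⟨⟨h⁻¹, map_inv _ _⟩, by simp⟩ fun l hl b hb => hh b (by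
          show b.1 ∈ bJ
          rw [hb]
          exact (show [ONSlp.level0, ONSlp.level1, ONSlp.level2, ONSlp.level3, ONSlp.level4].map OrbLevel.base = bJ from rfl) ▸
            List.mem_map_of_mem hl))
  intro g hg
  have h0 : g⁻¹ ∈ ONOrbit.J := (hst g⁻¹).2 (by
    have := hg ⟨0, by omega⟩ (by simp [bG])
    rwa [← map_inv] at this)
  have hgJ : g ∈ ONOrbit.J := by simpa using inv_mem h0
  obtain ⟨e0, e1, e3, e5, e9⟩ := bases_ok
  have : (⟨g, hgJ⟩ : ONOrbit.J) = 1 := by
    refine hbJ _ fun b hb => ?_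
    have hfinj : Function.Injective f := by
      intro u v huv
      have h' : get32 ON122760.orbPts3 u.1 = get32 ON122760.orbPts3 v.1 := congrArg Fin.val huv
      apply Fin.ext
      rw [← (hj u.1 u.2).1.2, h', (hj v.1 v.2).1.2]
    refine hfinj ?_
    rw [hrel]
    refine hg _ ?_
    show get32 ON122760.orbPts3 b.1 ∈ bG
    simp only [bJ, List.mem_cons, List.not_mem_nil, or_false] at hb
    rcases hb with h | h | h | h | h <;> rw [h] <;> simp [bG, e0, e1, e3, e5, e9]
  exact congrArg Subtype.val this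

/-- Substituted letters, with inverses as powers. -/
def subW (a bb bi : List ℕ) (w : List ℕ) : List ℕ := w.flatMap fun g => [a, a, bb, bi].getD g []

/-- Generators of the subgroup of order 175560. -/
def a1 : List ℕ := [2, 3, 6, 5, 7, 0, 6, 0, 5, 6]

/-- Generators of the subgroup of order 175560. -/
def b1 : List ℕ := [2, 4, 3, 2, 5, 4, 5, 0, 3, 4, 5, 0, 6, 0, 3, 4, 6, 5, 4, 3]

/-- Generators of the subgroup of order 7920. -/
def a11 : List ℕ := [2, 3, 2, 0, 3, 0]

/-- Generators of the subgroup of order 7920. -/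
def b11 : List ℕ := [3, 4, 5, 6, 5, 4, 3, 2, 5, 4, 3, 5, 4, 5, 6, 5, 4, 3, 5, 4, 5, 2, 3, 6, 7, 3, 6, 5, 4, 5, 3, 6, 5, 4, 5, 0, 3, 6, 5, 4, 3, 5, 1, 3, 4, 5, 6]

/-- A check that substituted relators are trivial. -/
noncomputable def subOK (R : List (List ℕ)) (a b bi : List ℕ) : Bool :=
  (a ++ b ++ bi).all (fun g => Nat.blt g 8) && eqW T122 bG (a ++ a) [] && eqW T122 bG (bi ++ b) [] &&
    !(eqW T122 bG a []) && R.all fun l => l.all (fun g => Nat.blt g 4) && eqW T122 bG (subW a b bi l) []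

theorem sub_ok1 : subOK J1x25080.relWords a1 b1 (b1 ++ b1) = true := by decide +kernel

theorem sub_ok11 : subOK M11x11.relWords a11 b11 (b11 ++ b11 ++ b11) = true := by decide +kernel

theorem bases_eq : get32 ON122760.orbPts3 0 = 12 ∧ get32 ON122760.orbPts3 1 = 40 ∧
    get32 ON122760.orbPts3 3 = 28 ∧ get32 ON122760.orbPts3 5 = 77 ∧ get32 ON122760.orbPts3 9 = 185 := by
  decide +kernel

/-- A simple presented group embeds by images of its generators. -/
theorem exists_sub (M : Model ONOrbit.G 122760) (hE : M.E = 8) (hT : M.T = T122) (hbs : M.bs = bG)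
    (R : List (List ℕ)) [IsSimpleGroup (PresentedGroup (Cfsg.Agent.Lib.ExactCover.relSet 2 R))]
    (a b bi : List ℕ) (h : subOK R a b bi = true) :
    ∃ φ : PresentedGroup (Cfsg.Agent.Lib.ExactCover.relSet 2 R) →* ONOrbit.G, Function.Injective φ := by
  simp only [subOK, Bool.and_eq_true, List.all_eq_true, Nat.blt_eq, Bool.not_eq_true',
    List.mem_append] at h
  obtain ⟨⟨⟨⟨hlt, haa⟩, hbb⟩, hne⟩, hR⟩ := h
  rw [← hT, ← hbs] at haa hbb hne hR
  have hla : ∀ k ∈ a, k < M.E := fun k hk => by rw [hE]; exact hlt k (Or.inl (Or.inl hk))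
  have hlb : ∀ k ∈ b, k < M.E := fun k hk => by rw [hE]; exact hlt k (Or.inl (Or.inr hk))
  have hli : ∀ k ∈ bi, k < M.E := fun k hk => by rw [hE]; exact hlt k (Or.inr hk)
  have happ : ∀ u v : List ℕ, M.val (u ++ v) = M.val u * M.val v := fun u v => by
    simp [Model.val]
  have e1 : M.val a * M.val a = 1 := by
    rw [← happ]
    exact (M.eq_of_eqW (fun k hk => (List.mem_append.1 hk).elim (hla k) (hla k)) (by simp) haa).trans rfl
  have e3 : M.val bi * M.val b = 1 := by
    rw [← happ]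
    exact (M.eq_of_eqW (fun k hk => (List.mem_append.1 hk).elim (hli k) (hlb k)) (by simp) hbb).trans rfl
  let ML : ℕ → ONOrbit.G := fun g => M.val ([a, a, b, bi].getD g [])
  have hsub : ∀ w : List ℕ, M.val (subW a b bi w) = (w.map ML).prod := by
    intro w
    induction w with
    | nil => rfl
    | cons g w ih =>
      rw [subW, List.flatMap_cons, happ, List.map_cons, List.prod_cons, ← ih]
      rfl
  have hlsub : ∀ w : List ℕ, (∀ g ∈ w, g < 4) → ∀ k ∈ subW a b bi w, k < M.E := by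
    intro w hw k hk
    rw [subW, List.mem_flatMap] at hk
    obtain ⟨g, hg, hk⟩ := hk
    match g, hw g hg with
    | 0, _ => exact hla k hk
    | 1, _ => exact hla k hk
    | 2, _ => exact hlb k hk
    | 3, _ => exact hli k hk
  obtain ⟨φ, hφ0, -⟩ := exists_hom R ML (eq_inv_of_mul_eq_one_left e1) (eq_inv_of_mul_eq_one_left e3)
    (fun l hl => ⟨(hR l hl).1, (hsub l).symm.trans
      ((M.eq_of_eqW (hlsub l (hR l hl).1) (by simp) (hR l hl).2).trans rfl)⟩)
  refine ⟨φ, ?_⟩
  rw [← MonoidHom.ker_eq_bot_iff]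
  rcases (MonoidHom.normal_ker φ).eq_bot_or_eq_top with h | h
  · exact h
  · exfalso
    have h0 : φ (PresentedGroup.of 0) = 1 := by rw [← MonoidHom.mem_ker, h]; trivial
    rw [hφ0] at h0
    have : eqW M.T M.bs a [] = true := (M.eqW_iff hla (by simp)).2 (h0.trans rfl)
    rw [hne] at this
    exact Bool.noConfusion this

/-- The two subgroups. -/
theorem exists_subs : (∃ K : Subgroup ONOrbit.G, Cfsg.IsJ1 K) ∧ ∃ K : Subgroup ONOrbit.G, Cfsg.IsM11 K := by
  obtain ⟨ρ, hρ, hst, -, hinj, -, hJ⟩ := ONOrbit.main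
  let M := letterModel ON122760.letters ON122760.pres ρ hρ hinj bG
    (fun b hb => by simp only [bG, List.mem_cons, List.not_mem_nil, or_false] at hb; omega)
    (base_eq ρ hρ hst hJ bases_eq)
  constructor
  · haveI := isJ1_P1.1
    obtain ⟨φ, hφ⟩ := exists_sub M rfl rfl rfl J1x25080.relWords a1 b1 (b1 ++ b1) sub_ok1
    have e := MonoidHom.ofInjective hφ
    exact ⟨φ.range, e.symm.isSimpleGroup, (Nat.card_congr e.toEquiv).symm.trans isJ1_P1.2⟩
  · haveI := isM11_P11.1
    obtain ⟨φ, hφ⟩ := exists_sub M rfl rfl rfl M11x11.relWords a11 b11 (b11 ++ b11 ++ b11) sub_ok11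
    have e := MonoidHom.ofInjective hφ
    exact ⟨φ.range, e.symm.isSimpleGroup, (Nat.card_congr e.toEquiv).symm.trans isM11_P11.2⟩

end Cfsg.Agent.Lib.CosetEnum.ONSub
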